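import Groth.Agent.CSALib.SepIdem
import Groth.Agent.CSALib.InvolutionSecond
import Groth.Agent.CSALib.Splitting
import Groth.Agent.AzumayaX.SepAdjoin
import Mathlib.FieldTheory.IsAlgClosed.AlgebraicClosure
import Mathlib.RingTheory.Flat.Basic
import Mathlib.RingTheory.Artinian.Module

/-!
Separable subalgebras of absolutely semisimple algebras and their centralizers.
-/

universe u v w

set_option linter.style.haveILetI false

namespace Groth.Agent.BrauerXSep

open TensorProduct Polynomial CSALib

variable {k : Type u} [Field k]

/-- If the geometric fibre of a commutative algebra is reduced, its integral elements are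
separable. -/
theorem isSeparable_of_isReduced_baseChange (Z : Type v) [CommRing Z] [Algebra k Z]
    [Algebra.IsIntegral k Z] [IsReduced (AlgebraicClosure k ⊗[k] Z)] :
    Algebra.IsSeparable k Z := by
  refine ⟨fun z => ?_⟩
  set K := AlgebraicClosure k
  have hz : IsIntegral k z := Algebra.IsIntegral.isIntegral z
  rw [IsSeparable, ← Polynomial.separable_map (algebraMap k K), PerfectField.separable_iff_squarefree]
  intro q hq
  obtain ⟨c, hc⟩ := hq
  by_contra hu
  have hne : (minpoly k z).map (algebraMap k K) ≠ 0 := (minpoly.monic hz).map _ |>.ne_zero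
  let φ : K[X] →ₐ[K] K ⊗[k] Z := Polynomial.aeval ((1 : K) ⊗ₜ[k] z)
  let i : AdjoinRoot (minpoly k z) →ₐ[k] Z := CSALib.adjoinRootHom k z
  have hi : Function.Injective i := by
    rw [injective_iff_map_eq_zero]
    intro y hy
    obtain ⟨F, rfl⟩ := AdjoinRoot.mk_surjective y
    rw [← AdjoinRoot.aeval_eq, ← aeval_algHom_apply, CSALib.adjoinRootHom_root k z] at hy
    exact AdjoinRoot.mk_eq_zero.2 (minpoly.dvd k z hy)
  -- the powers of `1 ⊗ z` below the degree stay independent
  have key : ∀ p : K[X], p.degree < ((minpoly k z).map (algebraMap k K)).degree → φ p = 0 → p = 0 := by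
    intro p hp hp0
    rw [degree_map] at hp
    by_contra hpne
    have hdeg : p.natDegree < (minpoly k z).natDegree := natDegree_lt_natDegree hpne hp
    have hli : LinearIndependent k (fun j : Fin (minpoly k z).natDegree => z ^ (j : ℕ)) :=
      linearIndependent_pow z
    have hli' : LinearIndependent K
        (fun j : Fin (minpoly k z).natDegree => (1 : K) ⊗ₜ[k] (z ^ (j : ℕ))) :=
      Module.Flat.linearIndependent_one_tmul hli
    have := Fintype.linearIndependent_iff.1 hli' (fun j => p.coeff j) (by
      have hexp : φ p = ∑ j ∈ Finset.range (minpoly k z).natDegree,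
          p.coeff j • ((1 : K) ⊗ₜ[k] z) ^ j :=
        aeval_eq_sum_range' hdeg _
      rw [Finset.sum_range] at hexp
      rw [← hp0, hexp]
      exact Finset.sum_congr rfl fun j _ => by simp [Algebra.TensorProduct.tmul_pow])
    exact hpne (Polynomial.ext fun j => by
      by_cases hj : j < (minpoly k z).natDegree
      · simpa using this ⟨j, hj⟩
      · simp [coeff_eq_zero_of_natDegree_lt (lt_of_lt_of_le hdeg (not_lt.1 hj))])
  have h0 : φ ((minpoly k z).map (algebraMap k K)) = 0 := by
    simp only [φ, aeval_map_algebraMap]
    rw [show ((1 : K) ⊗ₜ[k] z) = Algebra.TensorProduct.includeRight z from rfl,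
      aeval_algHom_apply, minpoly.aeval, map_zero]
  have hsq : φ (q * c) ^ 2 = 0 := by
    have : (q * c) ^ 2 = ((minpoly k z).map (algebraMap k K)) * c := by rw [hc]; ring
    rw [← map_pow, this, map_mul, h0, zero_mul]
  have hqc : φ (q * c) = 0 := IsReduced.eq_zero _ ⟨2, hsq⟩
  have hcne : c ≠ 0 := by rintro rfl; exact hne (by rw [hc, mul_zero])
  have hqne : q ≠ 0 := by rintro rfl; exact hne (by rw [hc, zero_mul, zero_mul])
  refine mul_ne_zero hqne hcne (key (q * c) ?_ hqc)
  have h1 : 0 < q.natDegree := by
    rw [Nat.pos_iff_ne_zero]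
    exact fun h => hu (isUnit_iff_degree_eq_zero.2 (by rw [degree_eq_natDegree hqne, h]; rfl))
  rw [degree_eq_natDegree (mul_ne_zero hqne hcne), degree_eq_natDegree hne, Nat.cast_lt, hc,
    mul_assoc, natDegree_mul hqne (mul_ne_zero hqne hcne)]
  omega

/-- A commutative separable algebra has separable elements. -/
theorem isSeparable_of_hasSepIdem (B : Type v) [CommRing B] [Algebra k B] [FiniteDimensional k B]
    (h : HasSepIdem k B) : Algebra.IsSeparable k B := by
  haveI : IsSemisimpleRing (AlgebraicClosure k ⊗[k] B) :=
    (h.baseChange (AlgebraicClosure k)).isSemisimpleRing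
  exact isSeparable_of_isReduced_baseChange B

/-- The center of an absolutely semisimple algebra is separable. -/
theorem isSeparable_center (C : Type v) [Ring C] [Algebra k C] [FiniteDimensional k C]
    (h : IsSemisimpleRing (AlgebraicClosure k ⊗[k] C)) :
    Algebra.IsSeparable k (Subalgebra.center k C) := by
  set K := AlgebraicClosure k
  let ψ : K ⊗[k] (Subalgebra.center k C) →ₐ[K] K ⊗[k] C :=
    Algebra.TensorProduct.map (AlgHom.id K K) (Subalgebra.center k C).val
  have hψ : Function.Injective ψ :=
    Module.Flat.lTensor_preserves_injective_linearMap (M := K) (Subalgebra.center k C).val.toLinearMap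
      Subtype.val_injective
  have hmem : ∀ x, ψ x ∈ Subalgebra.center K (K ⊗[k] C) := fun x => by
    rw [Subalgebra.mem_center_iff]
    intro y
    induction x using TensorProduct.induction_on with
    | zero => simp
    | add a b ha hb => simp only [map_add, mul_add, add_mul, ha, hb]
    | tmul a z =>
      induction y using TensorProduct.induction_on with
      | zero => simp
      | add c d hc hd => simp only [mul_add, add_mul, hc, hd]
      | tmul c w => simp [ψ, mul_comm c a, Subalgebra.mem_center_iff.1 z.2 w]
  haveI : IsReduced (K ⊗[k] (Subalgebra.center k C)) :=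
    (isReduced_iff_pow_one_lt 2 one_lt_two).2 fun x hx => hψ (by
      rw [map_zero]
      exact CSALib.eq_zero_of_sq_eq_zero (k := K) (hmem x) (by rw [← map_mul, ← pow_two, hx, map_zero]))
  exact isSeparable_of_isReduced_baseChange _

/-- A commutative algebra all of whose elements are separable has a separability idempotent. -/
theorem hasSepIdem_of_isSeparable (L : Type v) [CommRing L] [Algebra k L] [FiniteDimensional k L]
    [Algebra.IsSeparable k L] : HasSepIdem k L := by
  haveI : IsArtinianRing L := IsArtinianRing.of_finite k L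
  haveI : IsReduced L := by
    refine ⟨fun x hx => ?_⟩
    obtain ⟨n, hn⟩ := hx
    rcases subsingleton_or_nontrivial L with hs | hs
    · exact Subsingleton.elim _ _
    have hsep : (minpoly k x).Separable := Algebra.IsSeparable.isSeparable k x
    have hdvd : minpoly k x ∣ X ^ n := minpoly.dvd k x (by simp [hn])
    obtain ⟨j, -, hj⟩ := (dvd_prime_pow prime_X n).1 hdvd
    obtain ⟨r, hr, hrj⟩ : ∃ r : ℕ, r = j ∧ minpoly k x = X ^ r :=
      ⟨j, rfl, eq_of_monic_of_associated (minpoly.monic (IsIntegral.of_finite k x)) (monic_X_pow _) hj⟩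
    have hsq := hsep.squarefree
    rw [hrj] at hsq
    have hr1 : r = 1 := by
      rcases r with _ | _ | r
      · exact absurd (by simpa using hrj) (minpoly.ne_one k x)
      · rfl
      · exact absurd (hsq X ⟨X ^ r, by ring⟩) not_isUnit_X
    have := minpoly.aeval k x
    rw [hrj, hr1] at this
    simpa using this
  haveI : Algebra.IsSeparable k (Subalgebra.center k L) := ⟨fun c => by
    rw [IsSeparable, ← minpoly.algHom_eq (Subalgebra.center k L).val Subtype.val_injective]
    exact Algebra.IsSeparable.isSeparable k _⟩
  haveI : IsSemisimpleRing L := IsArtinianRing.isSemisimpleRing_of_isReduced L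
  exact hasSepIdem_of_semisimple k L

/-- A subalgebra onto which there is a bimodule projection inherits semisimplicity. -/
theorem isSemisimpleRing_of_projection {A : Type v} [Ring A] [IsSemisimpleRing A] {C : Type w}
    [Ring C] (ι : C →+* A) (E : A →+ C) (hE1 : ∀ c, E (ι c) = c)
    (hl : ∀ c a, E (ι c * a) = c * E a) (hr : ∀ a c, E (a * ι c) = E a * c) :
    IsSemisimpleRing C := by
  rw [IsSemisimpleRing, isSemisimpleModule_iff]
  refine ⟨fun N => ?_⟩
  obtain ⟨f, hf⟩ : ∃ f : A →ₗ[A] A, LinearMap.range f = Ideal.span (ι '' (N : Set C)) ∧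
      ∀ y ∈ Ideal.span (ι '' (N : Set C)), f y = y := by
    obtain ⟨Q, hQ⟩ := exists_isCompl (Ideal.span (ι '' (N : Set C)))
    exact ⟨_, Submodule.range_projection hQ,
      fun y hy => (Submodule.projection_apply_left hQ ⟨y, hy⟩)⟩
  have hEN : ∀ y ∈ Ideal.span (ι '' (N : Set C)), E y ∈ N := fun y hy => by
    induction hy using Submodule.span_induction with
    | mem y hy =>
      obtain ⟨c, hc, rfl⟩ := hy
      rwa [hE1]
    | zero => simp
    | add a b _ _ ha hb => rw [map_add]; exact N.add_mem ha hb
    | smul a y hy _ =>
      suffices h : ∀ a : A, E (a * y) ∈ N from h a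
      clear a
      rename_i hy0
      clear hy0
      induction hy using Submodule.span_induction with
      | mem y hy =>
        obtain ⟨c, hc, rfl⟩ := hy
        intro a
        rw [hr]; exact N.smul_mem (E a) hc
      | zero => simp
      | add p q _ _ hp hq => intro a; rw [mul_add, map_add]; exact N.add_mem (hp a) (hq a)
      | smul b p _ hp => intro a; rw [smul_eq_mul, ← mul_assoc]; exact hp _
  let P : C →ₗ[C] C :=
    { toFun := fun c => E (f (ι c))
      map_add' := fun a b => by simp
      map_smul' := fun a b => by
        rw [smul_eq_mul, map_mul, show ι a * ι b = ι a • ι b from rfl, map_smul, smul_eq_mul,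
          RingHom.id_apply, smul_eq_mul, hl] }
  have hP1 : ∀ c, P c ∈ N := fun c => hEN _ (hf.1 ▸ LinearMap.mem_range_self f (ι c))
  have hP2 : ∀ c ∈ N, P c = c := fun c hc => by
    show E (f (ι c)) = c
    rw [hf.2 _ (Ideal.subset_span ⟨c, hc, rfl⟩), hE1]
  exact ⟨LinearMap.ker (P.codRestrict N hP1),
    LinearMap.isCompl_of_proj fun x => Subtype.ext (hP2 x x.2)⟩

/-- The centralizer of a separable commutative subalgebra of an absolutely semisimple algebra is
absolutely semisimple. -/
theorem isSemisimpleRing_baseChange_centralizer {A : Type v} [Ring A] [Algebra k A]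
    (L : Subalgebra k A) (hL : HasSepIdem k L) (K : Type w) [Field K] [Algebra k K]
    [IsSemisimpleRing (K ⊗[k] A)] :
    IsSemisimpleRing (K ⊗[k] Subalgebra.centralizer k (L : Set A)) := by
  obtain ⟨e, he1, he2⟩ := hL
  set C := Subalgebra.centralizer k (L : Set A)
  let Φ : L ⊗[k] L →ₗ[k] (A →ₗ[k] A) := TensorProduct.lift (LinearMap.mk₂ k
    (fun x y : L => LinearMap.mulLeftRight k ((x : A), (y : A)))
    (fun x x' y => by ext; simp [add_mul])
    (fun r x y => by ext; simp)
    (fun x y y' => by ext; simp [mul_add])
    (fun r x y => by ext; simp))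
  have hΦ : ∀ (x y : L) (a : A), Φ (x ⊗ₜ y) a = x * a * y := fun x y a => rfl
  have hΦC : ∀ w (c : C) (a : A), Φ w ((c : A) * a) = c * Φ w a ∧ Φ w (a * c) = Φ w a * c ∧
      Φ w c = c * (LinearMap.mul' k L w : L) := fun w c a => by
    induction w using TensorProduct.induction_on with
    | zero => simp
    | add p q hp hq =>
      simp only [map_add, LinearMap.add_apply, Subalgebra.coe_add, hp.1, hq.1, hp.2.1, hq.2.1,
        hp.2.2, hq.2.2, mul_add, add_mul, and_self]
    | tmul p q =>
      have hp : (p : A) * c = c * p := Subalgebra.mem_centralizer_iff _ |>.1 c.2 p p.2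
      have hq : (q : A) * c = c * q := Subalgebra.mem_centralizer_iff _ |>.1 c.2 q q.2
      simp only [hΦ, LinearMap.mul'_apply, MulMemClass.coe_mul]
      refine ⟨?_, ?_, ?_⟩
      · rw [← mul_assoc (p : A), hp]; simp only [mul_assoc]
      · simp only [mul_assoc, ← hq]
      · rw [hp, mul_assoc]
  have hmem : ∀ a, Φ e a ∈ C := fun a => by
    rw [Subalgebra.mem_centralizer_iff]
    intro l hl
    have h1 : ∀ w, Φ (((⟨l, hl⟩ : L) ⊗ₜ[k] (1 : L)) * w) a = l * Φ w a := fun w => by
      induction w using TensorProduct.induction_on with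
      | zero => simp
      | add p q hp hq => simp only [mul_add, map_add, LinearMap.add_apply, hp, hq]
      | tmul p q => simp [hΦ, mul_assoc]
    have h2 : ∀ w, Φ (w * ((1 : L) ⊗ₜ[k] (⟨l, hl⟩ : L))) a = Φ w a * l := fun w => by
      induction w using TensorProduct.induction_on with
      | zero => simp
      | add p q hp hq => simp only [add_mul, map_add, LinearMap.add_apply, hp, hq]
      | tmul p q => simp [hΦ, mul_assoc]
    rw [← h1, he2, h2]
  let E : A →ₗ[k] C := (Φ e).codRestrict (Subalgebra.toSubmodule C) hmem
  have hEc : ∀ c : C, E c = c := fun c => Subtype.ext (by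
    show Φ e c = c
    rw [(hΦC e c 1).2.2, he1]; simp)
  refine isSemisimpleRing_of_projection
    (Algebra.TensorProduct.map (AlgHom.id k K) C.val).toRingHom
    (LinearMap.lTensor K E).toAddMonoidHom (fun c => ?_) (fun c a => ?_) (fun a c => ?_)
  · induction c using TensorProduct.induction_on with
    | zero => simp
    | add p q hp hq => simp_all
    | tmul x c => simp [hEc]
  · induction c using TensorProduct.induction_on with
    | zero => simp
    | add p q hp hq => simp_all [add_mul]
    | tmul x c =>
      induction a using TensorProduct.induction_on with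
      | zero => simp
      | add p q hp hq => simp_all [mul_add]
      | tmul y a =>
        have : E ((c : A) * a) = c * E a := Subtype.ext (hΦC e c a).1
        simp [this]
  · induction c using TensorProduct.induction_on with
    | zero => simp
    | add p q hp hq => simp_all [mul_add]
    | tmul x c =>
      induction a using TensorProduct.induction_on with
      | zero => simp
      | add p q hp hq => simp_all [add_mul]
      | tmul y a =>
        have : E (a * (c : A)) = E a * c := Subtype.ext (hΦC e c a).2.1
        simp [this]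

/-- Every noncommutative central simple algebra has a commutative separable subalgebra larger than
the center. -/
theorem exists_separable_element (Z : Type w) [Field Z] (B : Type v) [Ring B] [Algebra Z B]
    [Algebra.IsCentral Z B] [IsSimpleRing B] [FiniteDimensional Z B] {r : ℕ}
    (hr : Module.finrank Z B = r ^ 2) :
    ∃ y : B, HasSepIdem Z (Algebra.adjoin Z ({y} : Set B)) ∧
      Module.finrank Z (Algebra.adjoin Z ({y} : Set B)) = r := by
  obtain ⟨y, hy1, hy2⟩ : ∃ b : B, (minpoly Z b).Separable ∧ (minpoly Z b).natDegree = r := by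
    rcases finite_or_infinite Z with h | h
    · exact AzumayaX.exists_separable_of_finite hr
    · exact AzumayaX.exists_separable_of_infinite hr
  have hint : IsIntegral Z y := IsIntegral.of_finite Z y
  refine ⟨y, ?_, by rw [AzumayaX.finrank_adjoin_singleton hint, hy2]⟩
  let u₀ : AdjoinRoot (minpoly Z y) →ₐ[Z] B := CSALib.adjoinRootHom Z y
  have hroot : u₀ (AdjoinRoot.root (minpoly Z y)) = y := CSALib.adjoinRootHom_root Z y
  have hu₀ : Function.Injective u₀ := by
    rw [injective_iff_map_eq_zero]
    intro x hx
    obtain ⟨F, rfl⟩ := AdjoinRoot.mk_surjective x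
    rw [← AdjoinRoot.aeval_eq, ← aeval_algHom_apply, hroot] at hx
    exact AdjoinRoot.mk_eq_zero.2 (minpoly.dvd Z y hx)
  have hrange : u₀.range = Algebra.adjoin Z ({y} : Set B) := by
    rw [← Algebra.map_top, ← AdjoinRoot.adjoinRoot_eq_top, AlgHom.map_adjoin, Set.image_singleton,
      hroot]
  haveI := AzumayaX.etale_adjoinRoot (minpoly.monic hint) hy1
  refine HasSepIdem.congr ?_ ((AlgEquiv.ofInjective u₀ hu₀).trans (Subalgebra.equivOfEq _ _ hrange))
  exact ⟨Algebra.FormallyUnramified.elem Z _,
    by
      rw [show LinearMap.mul' Z (AdjoinRoot (minpoly Z y)) =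
        (Algebra.TensorProduct.lmul' Z (S := AdjoinRoot (minpoly Z y))).toLinearMap by ext; simp]
      exact Algebra.FormallyUnramified.lmul_elem,
    fun a => by rw [mul_comm (Algebra.FormallyUnramified.elem Z _),
      Algebra.FormallyUnramified.one_tmul_mul_elem]⟩

end Groth.Agent.BrauerXSep
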