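import Groth.Agent.BrauerXSep.Basic
import Mathlib.RingTheory.SimpleModule.WedderburnArtin

/-!
Maximal étale subalgebras of absolutely semisimple algebras.
-/

universe u v w

set_option linter.style.haveILetI false

namespace Groth.Agent.BrauerXSep

open TensorProduct CSALib

/-- A noncommutative simple algebra over a separable field extension has a commutative separable
subalgebra with a non-central element. -/
theorem exists_noncentral_sepSubalgebra_of_field {k : Type u} [Field k] (M : Type v) [Ring M]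
    [Algebra k M] [IsSimpleRing M] [FiniteDimensional k M] (Z : Type w) [Field Z] [Algebra k Z]
    [Algebra.IsSeparable k Z] [FiniteDimensional k Z] (ι : Z →ₐ[k] M)
    (hι : ∀ c x, ι c * x = x * ι c) (hsurj : ∀ x ∈ Subalgebra.center k M, x ∈ Set.range ι)
    (hnc : ∃ x : M, x ∉ Subalgebra.center k M) :
    ∃ T : Subalgebra k M, (∀ x ∈ T, ∀ y ∈ T, x * y = y * x) ∧ HasSepIdem k T ∧
      (∀ c ∈ Subalgebra.center k M, c ∈ T) ∧ ∃ x ∈ T, x ∉ Subalgebra.center k M := by
  letI : Algebra Z M := ι.toRingHom.toAlgebra' hι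
  haveI : IsScalarTower k Z M := IsScalarTower.of_algebraMap_eq fun r => (ι.commutes r).symm
  haveI : Module.Finite Z M := Module.Finite.of_restrictScalars_finite k Z M
  haveI : Algebra.IsCentral Z M := ⟨fun x hx => by
    obtain ⟨c, rfl⟩ := hsurj x (Subalgebra.mem_center_iff.2 fun b => Subalgebra.mem_center_iff.1 hx b)
    exact ⟨c, rfl⟩⟩
  obtain ⟨r, -, hr⟩ := CSALib.exists_finrank_eq_sq (k := Z) (A := M)
  obtain ⟨y, hy, hyr⟩ := exists_separable_element Z M hr
  set T' := Algebra.adjoin Z ({y} : Set M)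
  have hyT : y ∈ T' := Algebra.subset_adjoin (Set.mem_singleton y)
  refine ⟨T'.restrictScalars k, fun a ha b hb => ?_, ?_, fun c hc => ?_, y,
    (Subalgebra.mem_restrictScalars k).2 hyT, fun hyc => ?_⟩
  · haveI : IsMulCommutative T' := Algebra.isMulCommutative_adjoin Z (s := {y}) (by simp)
    exact congrArg Subtype.val (mul_comm' (⟨a, ha⟩ : T') ⟨b, hb⟩)
  · show HasSepIdem k T'
    exact (hasSepIdem_of_isSeparable (k := k) Z).trans k hy
  · obtain ⟨c', rfl⟩ := hsurj c hc
    exact T'.algebraMap_mem c'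
  · obtain ⟨c', hc'⟩ := hsurj y hyc
    have hbot : T' = ⊥ := le_bot_iff.1 (Algebra.adjoin_le (Set.singleton_subset_iff.2 ⟨c', hc'⟩))
    rw [hbot, Subalgebra.finrank_bot] at hyr
    rw [← hyr, one_pow] at hr
    obtain ⟨x, hx⟩ := hnc
    obtain ⟨c, hc⟩ := Algebra.mem_bot.1
      ((Subalgebra.bot_eq_top_of_finrank_eq_one hr).symm ▸ (Algebra.mem_top : x ∈ (⊤ : Subalgebra Z M)))
    exact hx (hc ▸ Subalgebra.mem_center_iff.2 fun b => (hι c b).symm)

theorem exists_noncentral_sepSubalgebra {k : Type u} [Field k] (M : Type v) [Ring M] [Algebra k M]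
    [IsSimpleRing M] [FiniteDimensional k M] [Algebra.IsSeparable k (Subalgebra.center k M)]
    (hnc : ∃ x : M, x ∉ Subalgebra.center k M) :
    ∃ T : Subalgebra k M, (∀ x ∈ T, ∀ y ∈ T, x * y = y * x) ∧ HasSepIdem k T ∧
      (∀ c ∈ Subalgebra.center k M, c ∈ T) ∧ ∃ x ∈ T, x ∉ Subalgebra.center k M := by
  have hF : IsField (Subalgebra.center k M) := IsSimpleRing.isField_center M
  letI : Field (Subalgebra.center k M) := hF.toField
  exact exists_noncentral_sepSubalgebra_of_field M (Subalgebra.center k M)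
    (Subalgebra.center k M).val (fun c x => (Subalgebra.mem_center_iff.1 c.2 x).symm)
    (fun x hx => ⟨⟨x, hx⟩, rfl⟩) hnc

/-- Semisimplicity descends along field extensions. -/
theorem isSemisimpleRing_of_baseChange {k : Type u} [Field k] (K : Type w) [Field K] [Algebra k K]
    (C : Type v) [Ring C] [Algebra k C] [IsSemisimpleRing (K ⊗[k] C)] : IsSemisimpleRing C := by
  obtain ⟨π, hπ⟩ := LinearMap.exists_leftInverse_of_injective (Algebra.linearMap k K)
    (LinearMap.ker_eq_bot.2 (algebraMap k K).injective)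
  have hπ1 : π 1 = 1 := by simpa using LinearMap.congr_fun hπ 1
  let E : K ⊗[k] C →ₗ[k] C := (TensorProduct.lid k C).toLinearMap ∘ₗ LinearMap.rTensor C π
  have hE : ∀ x c, E (x ⊗ₜ c) = π x • c := fun x c => rfl
  refine isSemisimpleRing_of_projection
    (Algebra.TensorProduct.includeRight : C →ₐ[k] K ⊗[k] C).toRingHom E.toAddMonoidHom
    (fun c => by simp [hE, hπ1]) (fun c a => ?_) (fun a c => ?_)
  · induction a using TensorProduct.induction_on with
    | zero => simp
    | add p q hp hq => simp_all [mul_add]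
    | tmul x d => simp [hE]
  · induction a using TensorProduct.induction_on with
    | zero => simp
    | add p q hp hq => simp_all [add_mul]
    | tmul x d => simp [hE]

theorem hasSepIdem_center {k : Type u} [Field k] (M : Type v) [Ring M] [Algebra k M]
    [FiniteDimensional k M] [Algebra.IsSeparable k (Subalgebra.center k M)] :
    HasSepIdem k (Subalgebra.center k M) :=
  @hasSepIdem_of_isSeparable k _ (Subalgebra.center k M) _ _ _ ‹_›

/-- A commutative separable subalgebra of a semisimple algebra with separable center, strictly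
bigger than the center if the algebra is noncommutative. -/
theorem exists_sep_above_center {k : Type u} [Field k] (C : Type v) [Ring C] [Algebra k C]
    [FiniteDimensional k C] [IsSemisimpleRing C] [Algebra.IsSeparable k (Subalgebra.center k C)]
    (hnc : ∃ x : C, x ∉ Subalgebra.center k C) :
    ∃ T : Subalgebra k C, (∀ x ∈ T, ∀ y ∈ T, x * y = y * x) ∧ HasSepIdem k T ∧
      Subalgebra.center k C ≤ T ∧ ∃ x ∈ T, x ∉ Subalgebra.center k C := by
  classical
  obtain ⟨x, hx⟩ := hnc
  obtain ⟨n, D, d, _, _, hfin, hd, ⟨f⟩⟩ :=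
    IsSemisimpleRing.exists_algEquiv_pi_matrix_divisionRing_finite k C
  have hnz : ∀ i, Nonempty (Fin (d i)) := fun i => ⟨⟨0, Nat.pos_of_ne_zero (hd i).out⟩⟩
  let M := fun i => Matrix (Fin (d i)) (Fin (d i)) (D i)
  haveI : ∀ i, Algebra.IsSeparable k (Subalgebra.center k (M i)) :=
    fun i => isSeparable_center_factor f i
  have hfl : ∀ l ∈ Subalgebra.center k C, ∀ i, f l i ∈ Subalgebra.center k (M i) := fun l hl i => by
    rw [Subalgebra.mem_center_iff]
    intro b
    obtain ⟨w, hw⟩ := f.surjective (Pi.single i b)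
    have h := congrFun (congrArg f (Subalgebra.mem_center_iff.1 hl w)) i
    simpa [hw] using h
  obtain ⟨i₀, hi₀⟩ : ∃ i, f x i ∉ Subalgebra.center k (M i) := by
    by_contra hall
    push Not at hall
    refine hx (Subalgebra.mem_center_iff.2 fun b => f.injective ?_)
    rw [map_mul, map_mul]
    funext i
    exact Subalgebra.mem_center_iff.1 (hall i) (f b i)
  obtain ⟨T, hTc, hTs, hTz, y, hyT, hyc⟩ :=
    exists_noncentral_sepSubalgebra (M i₀) ⟨_, hi₀⟩
  let S : ∀ i, Subalgebra k (M i) := Function.update (fun i => Subalgebra.center k (M i)) i₀ T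
  have hS : ∀ i, (∀ a ∈ S i, ∀ b ∈ S i, a * b = b * a) ∧ HasSepIdem k (S i) ∧
      ∀ c ∈ Subalgebra.center k (M i), c ∈ S i := fun i => by
    rcases eq_or_ne i i₀ with rfl | hne
    · have e : S i = T := Function.update_self ..
      rw [e]
      exact ⟨hTc, hTs, hTz⟩
    · have e : S i = Subalgebra.center k (M i) := Function.update_of_ne hne ..
      rw [e]
      exact ⟨fun a ha b hb => (Subalgebra.mem_center_iff.1 hb a),
        @hasSepIdem_center k _ (M i) _ _ _ (isSeparable_center_factor f i), fun c hc => hc⟩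
  let φ : (Π i, S i) →ₐ[k] C := f.symm.toAlgHom.comp
    (AlgHom.pi fun i => (S i).val.comp (Pi.evalAlgHom k (fun i => S i) i))
  have hφ : Function.Injective φ := fun a b hab => by
    funext i
    exact Subtype.ext (congrFun (f.symm.injective hab) i)
  refine ⟨φ.range, ?_, (hasSepIdem_pi _ fun i => (hS i).2.1).congr (AlgEquiv.ofInjective φ hφ),
    fun l hl => ?_, ?_⟩
  · rintro _ ⟨a, rfl⟩ _ ⟨b, rfl⟩
    show φ a * φ b = φ b * φ a
    rw [← map_mul, ← map_mul]
    exact congrArg φ (funext fun i => Subtype.ext ((hS i).1 _ (a i).2 _ (b i).2))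
  · refine ⟨fun i => ⟨f l i, (hS i).2.2 _ (hfl l hl i)⟩, ?_⟩
    show f.symm (fun i => f l i) = l
    exact f.symm_apply_apply l
  · let w : Π i, S i := Function.update 0 i₀ ⟨y, by simp [S, hyT]⟩
    refine ⟨φ w, ⟨w, rfl⟩, fun hw => hyc ?_⟩
    have h := hfl _ hw i₀
    rwa [show f (φ w) i₀ = (w i₀ : M i₀) from congrFun (f.apply_symm_apply _) i₀,
      show w i₀ = ⟨y, by simp [S, hyT]⟩ from Function.update_self ..] at h

theorem centralizer_eq_of_maximal {k : Type u} [Field k] {A : Type v} [Ring A] [Algebra k A]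
    [FiniteDimensional k A] (hss : IsSemisimpleRing (AlgebraicClosure k ⊗[k] A))
    (L : Subalgebra k A) (hcomm : ∀ x ∈ L, ∀ y ∈ L, x * y = y * x) (hsep : Algebra.IsSeparable k L)
    (hmax : ∀ L' : Subalgebra k A, (∀ x ∈ L', ∀ y ∈ L', x * y = y * x) → Algebra.IsSeparable k L' →
      L ≤ L' → L' = L) :
    Subalgebra.centralizer k (L : Set A) = L := by
  classical
  letI : CommRing L := { (inferInstance : Ring L) with
    mul_comm := fun a b => Subtype.ext (hcomm a a.2 b b.2) }
  have hL : HasSepIdem k L := hasSepIdem_of_isSeparable (k := k) L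
  set C := Subalgebra.centralizer k (L : Set A) with hC
  have hle : L ≤ C := fun x hx => by
    rw [Subalgebra.mem_centralizer_iff]
    exact fun l hl => hcomm l hl x hx
  haveI hCss := isSemisimpleRing_baseChange_centralizer L hL (AlgebraicClosure k)
  haveI hsepC := isSeparable_center C hCss
  -- the center of the centralizer is `L`
  have hcent : ∀ c ∈ Subalgebra.center k C, (c : A) ∈ L := by
    have h := hmax ((Subalgebra.center k C).map C.val)
      (by
        rintro _ ⟨a, ha, rfl⟩ _ ⟨b, hb, rfl⟩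
        show (a : A) * b = b * a
        exact congrArg Subtype.val ((Subalgebra.mem_center_iff.1 hb) a))
      (by
        refine ⟨fun x => ?_⟩
        obtain ⟨_, a, ha, rfl⟩ := x
        have h1 : IsSeparable k (⟨a, ha⟩ : Subalgebra.center k C) :=
          Algebra.IsSeparable.isSeparable k _
        rw [IsSeparable, ← minpoly.algHom_eq (Subalgebra.center k C).val Subtype.val_injective,
          ← minpoly.algHom_eq C.val Subtype.val_injective] at h1
        rw [IsSeparable, ← minpoly.algHom_eq ((Subalgebra.center k C).map C.val).val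
          Subtype.val_injective]
        exact h1)
      (fun x hx => ⟨⟨x, hle hx⟩, Subalgebra.mem_center_iff.2 fun b => Subtype.ext
        ((Subalgebra.mem_centralizer_iff _).1 b.2 x hx).symm, rfl⟩)
    exact fun c hc => h ▸ ⟨c, hc, rfl⟩
  haveI : IsSemisimpleRing C := isSemisimpleRing_of_baseChange (k := k) (AlgebraicClosure k) C
  refine le_antisymm (fun x hx => ?_) hle
  by_contra hxL
  obtain ⟨T, hTc, hTs, hTz, y, hyT, hyc⟩ :=
    exists_sep_above_center C ⟨⟨x, hx⟩, fun h => hxL (hcent _ h)⟩
  letI : CommRing T := { (inferInstance : Ring T) with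
    mul_comm := fun a b => Subtype.ext (hTc a a.2 b b.2) }
  haveI hTsep : Algebra.IsSeparable k T := isSeparable_of_hasSepIdem (k := k) T hTs
  have heq := hmax (T.map C.val)
    (by
      rintro _ ⟨a, ha, rfl⟩ _ ⟨b, hb, rfl⟩
      exact congrArg Subtype.val (hTc a ha b hb))
    (by
      refine ⟨fun z => ?_⟩
      obtain ⟨_, a, ha, rfl⟩ := z
      have h1 : IsSeparable k (⟨a, ha⟩ : T) := Algebra.IsSeparable.isSeparable k _
      rw [IsSeparable, ← minpoly.algHom_eq T.val Subtype.val_injective,
        ← minpoly.algHom_eq C.val Subtype.val_injective] at h1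
      rw [IsSeparable, ← minpoly.algHom_eq (T.map C.val).val Subtype.val_injective]
      exact h1)
    (fun l hl => ⟨⟨l, hle hl⟩, hTz (Subalgebra.mem_center_iff.2 fun b => Subtype.ext
      ((Subalgebra.mem_centralizer_iff _).1 b.2 l hl).symm), rfl⟩)
  refine hyc (Subalgebra.mem_center_iff.2 fun b => Subtype.ext ?_)
  exact ((Subalgebra.mem_centralizer_iff _).1 b.2 _ (heq ▸ ⟨y, hyT, rfl⟩)).symm

end Groth.Agent.BrauerXSep
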